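import Cfsg.Agent.H742.HT.Lift
import Cfsg.Agent.H852.FrobElts
import Cfsg.Agent.KFacts.MM.OutAut

/-!
# S3512, quasisimple rows, `p = 2`: groups with a Frobenius group `5:4`; `M₂₂` (helper919)

* `five_four` : `L / Z(L)` contains `5:4`, `25 ∤ |G|`, `(dim, |K|, m) = (6, 4, 315)` or `(12, 2, 315)`: impossible;
* `m22` : the row `M₂₂`.
-/

set_option autoImplicit false
set_option linter.unusedSectionVars false

universe u w

namespace Cfsg.Agent.H919.HT.MTT

open Cfsg Module Cfsg.Agent.H828.HT Cfsg.Agent.H742.HT Cfsg.Agent.H192.Ht Cfsg.Agent.H742.HT.Lift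

variable {p : ℕ} [Fact p.Prime] {K : Type w} [Field K] {V : Type u} [AddCommGroup V] [Module (ZMod p) V] [Finite V]
    [Module K V] {G L : Subgroup (V ≃ₗ[ZMod p] V)} {h : ℕ}

theorem ord_two : orderOf ((2 : ℕ) : ZMod 5) = 4 := by
  rw [orderOf_eq_iff (by norm_num)]
  refine ⟨by decide, fun j h1 h2 => ?_⟩
  interval_cases j <;> decide

/-- **`5:4`** -/
theorem five_four (H : QL p K V G L h) {m : ℕ} (hm : m * h = Nat.card G)
    (hl : (finrank K V, Nat.card K, m) ∈ [(6, 4, 315), (12, 2, 315)]) (h25 : ¬ 25 ∣ Nat.card G)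
    {y z : L ⧸ Subgroup.center L} (hz : z ^ 5 = 1) (hz1 : z ≠ 1) (hy : y ^ 4 = 1) (hyz : y * z * y⁻¹ = z ^ 2) : False := by
  simp only [List.mem_cons, Prod.mk.injEq, List.not_mem_nil, or_false] at hl
  have hGfin : Finite G := inferInstance
  have hG0 : 0 < Nat.card G := Nat.card_pos
  have h0 : 0 < h := Nat.pos_of_ne_zero (by rintro rfl; omega)
  -- the characteristic
  have hp2 : p = 2 := by
    obtain ⟨k, hk, hk0⟩ := QN.exists_card H
    have h1 : p ∣ Nat.card K := hk ▸ dvd_pow_self p hk0.ne'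
    have h2 : p ∣ 2 ^ 2 := by
      rcases hl with ⟨-, h2, -⟩ | ⟨-, h2, -⟩ <;> rw [h2] at h1
      · exact h1
      · exact h1.trans (by norm_num)
    exact (Nat.prime_dvd_prime_iff_eq Fact.out Nat.prime_two).1 ((Fact.out : p.Prime).dvd_of_dvd_pow h2)
  have hm5 : m = 315 := by rcases hl with ⟨-, -, h2⟩ | ⟨-, -, h2⟩ <;> exact h2
  have h5 : ¬ 5 ∣ h := by
    rintro ⟨a, ha⟩
    exact h25 ⟨63 * a, by rw [← hm, hm5, ha]; ring⟩
  have c5 : Nat.Coprime 5 (Nat.card (Subgroup.center L)) := coprime_center H Nat.prime_five (by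
    rintro ⟨h1, -⟩
    rcases hl with ⟨h2, -, -⟩ | ⟨h2, -, -⟩ <;> rw [h2] at h1 <;> revert h1 <;> decide)
  have c2 : Nat.Coprime 2 (Nat.card (Subgroup.center L)) := coprime_center H Nat.prime_two (by
    rintro ⟨-, h1⟩
    rcases hl with ⟨-, h2, -⟩ | ⟨-, h2, -⟩ <;> rw [h2] at h1 <;> revert h1 <;> decide)
  have c4 : Nat.Coprime 4 (Nat.card (Subgroup.center L)) := Nat.Coprime.pow_left 2 c2
  obtain ⟨z', hz', ez⟩ := lift_pow c5 z hz
  obtain ⟨y', hy', ey⟩ := lift_pow c4 y hy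
  have hyz' : y' * z' * y'⁻¹ = z' ^ 2 := lift_rel c5 hz' (by rw [ey, ez]; exact hyz)
  have hz1' : (z' : V ≃ₗ[ZMod p] V) ≠ 1 := by
    intro h1
    have h2 : z' = 1 := Subtype.ext h1
    rw [h2] at ez
    exact hz1 ez.symm
  have : Fact (Nat.Prime 5) := ⟨Nat.prime_five⟩
  have hfpf : ∀ v : V, (z' : V ≃ₗ[ZMod p] V) v = v → v = 0 := fun v hv =>
    fpf_of_not_dvd H.half (r := 5) h5 (H.le z'.2) (by rw [← Subgroup.coe_pow, hz']; rfl) hz1' hv
  have ho : orderOf ((2 : ℕ) : ZMod 5) = 4 := ord_two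
  obtain ⟨c, hc1, hc2, -⟩ := frob H Nat.prime_five (by rw [hp2]; norm_num) hz' hyz' ho (by norm_num) hy' hfpf
  rcases hl with ⟨h1, h2, -⟩ | ⟨h1, h2, -⟩
  · omega
  · have hc : c = 3 := by omega
    rw [h2, hc] at hc2
    have hV : Nat.card V = 4096 := by rw [QN.card_V H, h1, h2]; norm_num
    have h3 := Fus.fus_fx H.half h0 hm (i := 13) (by rw [hV, hm5]) Nat.prime_two (H.le y'.2) (k := 2)
      (by rw [← Subgroup.coe_pow]; exact congrArg Subtype.val hy')
    rw [hc2, hm5] at h3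
    revert h3
    decide

section mtt

open Cfsg.Agent.GH.LowRankMathieu Cfsg.Agent.J4Type.CocodeMask
open Cfsg.Agent.SporadicA.GolayPerm hiding pcomp papp_pcomp

/-- tables -/
def PY : ℕ := 973945046982007308721274658687998016
def PZ : ℕ := 975752788534200086515760939580176480
def PZ' : ℕ := 957313415089679111916853915069134496

/-- `5:4` in `M₂₂` -/
theorem m22_elts : ∃ y z : Spor.M22, z ^ 5 = 1 ∧ z ≠ 1 ∧ y ^ 4 = 1 ∧ y * z * y⁻¹ = z ^ 2 := by
  have tY := isT_mk22 PY (by decide +kernel) (by decide +kernel) (by decide +kernel)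
  have tZ := isT_mk22 PZ (by decide +kernel) (by decide +kernel) (by decide +kernel)
  refine ⟨mk22 PY (by decide +kernel) (by decide +kernel) (by decide +kernel),
    mk22 PZ (by decide +kernel) (by decide +kernel) (by decide +kernel), ?_, ?_, ?_, ?_⟩
  · have h := tZ.mul (tZ.mul (tZ.mul (tZ.mul tZ)))
    rw [show pcomp PZ (pcomp PZ (pcomp PZ (pcomp PZ PZ))) = pone by decide +kernel] at h
    have h1 := h.eq isT_one
    rw [← h1]
    simp only [pow_succ, pow_zero, one_mul, mul_assoc]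
  · intro h
    rw [h] at tZ
    have h1 := tZ (some 1)
    have e : Cfsg.Agent.SporadicA.GolayBase.idx (some 1 : GolayPt) = 1 := by decide +kernel
    have h2 : (((1 : Spor.M22) : Equiv.Perm GolayPt) (some 1)) = some 1 := rfl
    rw [h2, e] at h1
    revert h1
    decide +kernel
  · have h := tY.mul (tY.mul (tY.mul tY))
    rw [show pcomp PY (pcomp PY (pcomp PY PY)) = pone by decide +kernel] at h
    have h1 := h.eq isT_one
    rw [← h1]
    simp only [pow_succ, pow_zero, one_mul, mul_assoc]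
  · rw [mul_inv_eq_iff_eq_mul, pow_two]
    have h := (tZ.mul tZ).mul tY
    rw [show pcomp (pcomp PZ PZ) PY = pcomp PY PZ by decide +kernel] at h
    exact (tY.mul tZ).eq h

end mtt

theorem card_aut : Nat.card (MulAut Spor.M22) = 887040 := by
  rw [← Cfsg.Agent.J4Type.Aut22.card_D22, ← Cfsg.Agent.KFacts.MM.OutAut.emb_range]
  exact Nat.card_congr (MonoidHom.ofInjective Cfsg.Agent.KFacts.MM.OutAut.emb_inj).toEquiv

/-- **`M₂₂`** -/
theorem m22 (H : QL p K V G L h) {m : ℕ} (hm : m * h = Nat.card G)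
    (hl : (finrank K V, Nat.card K, m) ∈ [(6, 4, 315), (12, 2, 315)]) (e : Spor.IsoM22 (L ⧸ Subgroup.center L)) :
    False := by
  obtain ⟨e⟩ := e
  obtain ⟨y, z, h1, h2, h3, h4⟩ := m22_elts
  have hG := QN.card_G_dvd H
  have hA : Nat.card (MulAut (L ⧸ Subgroup.center L)) = 887040 := by
    rw [← card_aut]
    exact Nat.card_congr (MulAut.congr e).toEquiv
  rw [hA] at hG
  refine five_four H hm hl (fun h5 => ?_) (y := e.symm y) (z := e.symm z) ?_ ?_ ?_ ?_
  · simp only [List.mem_cons, Prod.mk.injEq, List.not_mem_nil, or_false] at hl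
    have h6 := h5.trans hG
    rcases hl with ⟨-, h7, -⟩ | ⟨-, h7, -⟩ <;> rw [h7] at h6 <;> revert h6 <;> decide
  · rw [← map_pow, h1, map_one]
  · intro h5
    exact h2 (e.symm.injective (by rw [h5, map_one]))
  · rw [← map_pow, h3, map_one]
  · rw [← map_inv, ← map_mul, ← map_mul, ← map_pow, h4]

end Cfsg.Agent.H919.HT.MTT
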